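import Groth.Agent.Lib.Helper22.EtLoc.LocallyZero
import Groth.Agent.Lib.Helper22.EtLoc.HpullComp
import Groth.Agent.Lib.Helper22.DimShiftIso
import Groth.Agent.S0101

/-!
# A criterion for the vanishing of higher direct images on small étale sites

`LZ h G q`: every class in `H^q(X' ×_{V'} W, G)` dies after pulling back along an étale
neighbourhood `W' → W` of any given point of `W`.  If `LZ h G q` holds for `1 ≤ q ≤ n`, then
`R^q h_* G = 0` for `1 ≤ q ≤ n`.
-/

set_option autoImplicit false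
set_option linter.unusedSectionVars false

universe u

open CategoryTheory CategoryTheory.Limits Opposite AlgebraicGeometry Abelian

namespace Groth.Agent.Lib.Helper22.EtAcycLib

open Groth.Agent.Lib.Helper22.EtLoc Groth.Agent.Lib.Helper22.DimShift
open Groth.Agent.Lib.Helper22.CechU.Etale

/-- Inverse image of abelian étale sheaves is exact. -/
theorem pfl {X Y : Scheme.{u}} (f : X ⟶ Y) : PreservesFiniteLimits (EtCoh.pull f) :=
  Groth.Agent.S0101.result f

attribute [local instance] pfl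

section L1

variable {B B' : Scheme.{u}} (m : B' ⟶ B) [Etale m]

/-- If the boundary of a global section dies on an étale `B' → B`, the section lifts over `B'`. -/
lemma exists_lift_of_Hpull_δ_eq_zero (S : ShortComplex (EtCoh.Ab B)) (hS : S.ShortExact)
    (β : EtCoh.H B S.X₃ 0)
    (h0 : EtCore.Hpull m S.X₁ 1
      ((β : Ext (EtCoh.const B ℤ) S.X₃ 0).comp hS.extClass (zero_add 1)) = 0)
    (t : (pj m).obj (EtCoh.top B') ⟶ EtCoh.top B) :
    ∃ b : S.X₂.obj.obj (op ((pj m).obj (EtCoh.top B'))),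
      S.g.hom.app _ b = S.X₃.obj.map t.op (Sheaf.H.equiv₀ S.X₃ (EtCore.topIsTerminal B) β) := by
  have h2 := Hpull_δ m S hS 0 1 (zero_add 1) β
  rw [h0] at h2
  obtain ⟨γ, hγ⟩ := Ext.covariant_sequence_exact₃ _ (hS.map_of_exact (EtCoh.pull m)) _
    (zero_add 1) h2.symm
  refine ⟨σH m S.X₂ γ, ?_⟩
  have h3 := σH_naturality m S.g γ
  refine h3.symm.trans ?_
  have h4 : γ.comp (Ext.mk₀ ((EtCoh.pull m).map S.g)) (add_zero 0) = EtCore.Hpull m S.X₃ 0 β := hγ
  exact (congrArg (σH m S.X₃) h4).trans (σH_Hpull m S.X₃ t β)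

end L1

variable {X' V' : Scheme.{u}} (h : X' ⟶ V')

/-- The structure morphism of the base change of `W` along `h`. -/
noncomputable abbrev kk (W : V'.Etale) : ((EtCoh.bc h).obj W).left ⟶ X' := ((EtCoh.bc h).obj W).hom

instance (W : V'.Etale) : Etale (kk h W) := ((EtCoh.bc h).obj W).prop

/-- Classes of degree `q` over base changes of étale `V'`-schemes die locally on the base. -/
def LZ (G : EtCoh.Ab X') (q : ℕ) : Prop :=
  ∀ (W : V'.Etale) (ξ : EtCoh.H ((EtCoh.bc h).obj W).left ((EtCoh.pull (kk h W)).obj G) q)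
    (y : W.left),
    ∃ (W' : V'.Etale) (f : W' ⟶ W) (y' : W'.left), f.left.base y' = y ∧
      EtCore.Hpull ((EtCoh.bc h).map f).left ((EtCoh.pull (kk h W)).obj G) q ξ = 0

lemma res_map_app {Y X : Scheme.{u}} (j : Y ⟶ X) [Etale j] {A A' : EtCoh.Ab X} (ψ : A ⟶ A')
    (T : Y.Etale) : ((res j).map ψ).hom.app (op T) = ψ.hom.app (op ((pj j).obj T)) := rfl

lemma res_obj_map {Y X : Scheme.{u}} (j : Y ⟶ X) [Etale j] (A : EtCoh.Ab X)
    {T T' : Y.Etale} (t : T ⟶ T') :
    ((res j).obj A).obj.map t.op = A.obj.map ((pj j).map t).op := rfl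

/-- If degree-one classes of `S.X₁` die locally on the base, `h_*` keeps `S.g` an epimorphism. -/
theorem epi_push_map_of_LZ (S : ShortComplex (EtCoh.Ab X')) (hS : S.ShortExact)
    (h1 : LZ h S.X₁ 1) : Epi ((EtCoh.push h).map S.g) := by
  have : Sheaf.IsLocallySurjective ((EtCoh.push h).map S.g) := by
    constructor
    intro W c
    rw [mem_smallEtaleTopology_iff]
    intro y
    let B : X'.Etale := (EtCoh.bc h).obj W
    let k : B.left ⟶ X' := kk h W
    let e := pjTopIso B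
    let ρ := pullIsoRes k
    let c₀ : ((res k).obj S.X₃).obj.obj (op (EtCoh.top B.left)) := S.X₃.obj.map e.hom.op c
    let c' : ((EtCoh.pull k).obj S.X₃).obj.obj (op (EtCoh.top B.left)) :=
      (ρ.inv.app S.X₃).hom.app (op (EtCoh.top B.left)) c₀
    let β : EtCoh.H B.left ((EtCoh.pull k).obj S.X₃) 0 :=
      (Sheaf.H.equiv₀ _ (EtCore.topIsTerminal B.left)).symm c'
    have hβ : Sheaf.H.equiv₀ _ (EtCore.topIsTerminal B.left) β = c' :=
      (Sheaf.H.equiv₀ _ (EtCore.topIsTerminal B.left)).apply_symm_apply c'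
    have hSk := hS.map_of_exact (EtCoh.pull k)
    obtain ⟨W', f, y', hy', hz⟩ := h1 W
      ((β : Ext (EtCoh.const B.left ℤ) (S.map (EtCoh.pull k)).X₃ 0).comp hSk.extClass
        (zero_add 1)) y
    refine ⟨W', f, y', ?_, hy'⟩
    let B' : X'.Etale := (EtCoh.bc h).obj W'
    let m : B'.left ⟶ B.left := ((EtCoh.bc h).map f).left
    have hm : m ≫ k = kk h W' := Over.w ((EtCoh.bc h).map f).hom
    let t : (pj m).obj (EtCoh.top B'.left) ⟶ EtCoh.top B.left :=
      MorphismProperty.Over.homMk m (by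
        change m ≫ 𝟙 _ = 𝟙 _ ≫ m
        rw [Category.comp_id, Category.id_comp]) trivial
    obtain ⟨b, hb⟩ := exists_lift_of_Hpull_δ_eq_zero m (S.map (EtCoh.pull k)) hSk β hz t
    let T : B.left.Etale := (pj m).obj (EtCoh.top B'.left)
    let b₁ : S.X₂.obj.obj (op ((pj k).obj T)) := (ρ.hom.app S.X₂).hom.app (op T) b
    let ι' : B' ⟶ (pj k).obj T := MorphismProperty.Over.homMk (𝟙 _) (by
      change 𝟙 _ ≫ ((𝟙 _ ≫ m) ≫ k) = kk h W'
      rw [Category.id_comp, Category.id_comp]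
      exact hm) trivial
    refine ⟨S.X₂.obj.map ι'.op b₁, ?_⟩
    -- naturality of `S.g`
    have n1 : S.g.hom.app (op B') (S.X₂.obj.map ι'.op b₁) =
        S.X₃.obj.map ι'.op (S.g.hom.app (op ((pj k).obj T)) b₁) :=
      NatTrans.naturality_apply S.g.hom ι'.op b₁
    -- naturality of `ρ` in the sheaf
    have n2 : S.g.hom.app (op ((pj k).obj T)) b₁ =
        (ρ.hom.app S.X₃).hom.app (op T) (((EtCoh.pull k).map S.g).hom.app (op T) b) := by
      have hnat := ρ.hom.naturality S.g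
      have := congrArg (fun ψ : (EtCoh.pull k).obj S.X₂ ⟶ (res k).obj S.X₃ =>
        ψ.hom.app (op T) b) hnat
      exact this.symm
    -- naturality of `ρ` in the object
    have n3 : (ρ.hom.app S.X₃).hom.app (op T) (((EtCoh.pull k).obj S.X₃).obj.map t.op c') =
        ((res k).obj S.X₃).obj.map t.op ((ρ.hom.app S.X₃).hom.app (op (EtCoh.top B.left)) c') :=
      NatTrans.naturality_apply (ρ.hom.app S.X₃).hom t.op c'
    have n4 : (ρ.hom.app S.X₃).hom.app (op (EtCoh.top B.left)) c' = c₀ := by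
      have hid : ρ.inv.app S.X₃ ≫ ρ.hom.app S.X₃ = 𝟙 _ := ρ.inv_hom_id_app S.X₃
      exact congrArg (fun ψ : (res k).obj S.X₃ ⟶ (res k).obj S.X₃ =>
        ψ.hom.app (op (EtCoh.top B.left)) c₀) hid
    have hb' : ((EtCoh.pull k).map S.g).hom.app (op T) b =
        ((EtCoh.pull k).obj S.X₃).obj.map t.op c' :=
      hb.trans (congrArg (fun z => ((EtCoh.pull k).obj S.X₃).obj.map t.op z) hβ)
    have hcomp : ι' ≫ (pj k).map t ≫ e.hom = (EtCoh.bc h).map f := by
      apply MorphismProperty.Over.Hom.ext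
      change 𝟙 _ ≫ m ≫ 𝟙 _ = m
      rw [Category.id_comp, Category.comp_id]
    change S.g.hom.app (op B') (S.X₂.obj.map ι'.op b₁) = S.X₃.obj.map ((EtCoh.bc h).map f).op c
    rw [n1, n2, hb', n3, n4]
    have hfin : S.X₃.obj.map ι'.op (S.X₃.obj.map ((pj k).map t).op (S.X₃.obj.map e.hom.op c)) =
        S.X₃.obj.map (ι' ≫ (pj k).map t ≫ e.hom).op c := by
      rw [← Functor.map_comp_apply, ← Functor.map_comp_apply, ← op_comp, ← op_comp,
        Category.assoc]
    exact hfin.trans (congrArg (fun φ : B' ⟶ B => S.X₃.obj.map φ.op c) hcomp)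
  exact Sheaf.epi_of_isLocallySurjective _

lemma ext_eq_zero_of_iso {𝒜 : Type*} [Category 𝒜] [Abelian 𝒜] [HasExt.{u + 1} 𝒜] {Z P Q : 𝒜}
    {n : ℕ} (e : P ≅ Q) (x : Ext Z Q n) (h : x.comp (Ext.mk₀ e.inv) (add_zero n) = 0) : x = 0 := by
  have h2 : x = (x.comp (Ext.mk₀ e.inv) (add_zero n)).comp (Ext.mk₀ e.hom) (add_zero n) := by
    rw [Ext.comp_assoc_of_second_deg_zero, Ext.mk₀_comp_mk₀, e.inv_hom_id, Ext.comp_mk₀_id]
  rw [h2, h, Ext.zero_comp]

/-- Successive étale pullbacks of an injective sheaf have no higher cohomology. -/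
lemma subsingleton_H_pull_pull {B B' : Scheme.{u}} (m : B' ⟶ B) (k : B ⟶ X') [Etale m] [Etale k]
    (J : EtCoh.Ab X') [Injective J] (q : ℕ) :
    Subsingleton (EtCoh.H B' ((EtCoh.pull m).obj ((EtCoh.pull k).obj J)) (q + 1)) := by
  have h := subsingleton_H_pull_of_cechFlasque (m ≫ k) J (cechFlasque_of_injective J) q
  let e := (EtCore.pullComp m k).app J
  refine subsingleton_of_forall_eq 0 fun x => ?_
  have h1 : (x : Ext (EtCoh.const B' ℤ) _ (q + 1)).comp (Ext.mk₀ e.inv) (add_zero (q + 1)) = 0 :=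
    Subsingleton.elim (α := EtCoh.H B' ((EtCoh.pull (m ≫ k)).obj J) (q + 1)) _ _
  exact ext_eq_zero_of_iso e x h1

/-- Dimension shifting for `LZ`. -/
theorem LZ_shift (S : ShortComplex (EtCoh.Ab X')) (hS : S.ShortExact) [Injective S.X₂] (q : ℕ)
    (h1 : LZ h S.X₁ (q + 2)) : LZ h S.X₃ (q + 1) := by
  intro W ξ y
  let k := kk h W
  have hSk := hS.map_of_exact (EtCoh.pull k)
  obtain ⟨W', f, y', hy', hz⟩ := h1 W
    ((ξ : Ext (EtCoh.const _ ℤ) (S.map (EtCoh.pull k)).X₃ (q + 1)).comp hSk.extClass rfl) y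
  refine ⟨W', f, y', hy', ?_⟩
  let m := ((EtCoh.bc h).map f).left
  have h2 := Hpull_δ m (S.map (EtCoh.pull k)) hSk (q + 1) (q + 2) rfl ξ
  have h3 : (EtCore.Hpull m (S.map (EtCoh.pull k)).X₃ (q + 1) ξ).comp
      (hSk.map_of_exact (EtCoh.pull m)).extClass rfl = 0 := h2.symm.trans hz
  obtain ⟨γ, hγ⟩ := Ext.covariant_sequence_exact₃ _ (hSk.map_of_exact (EtCoh.pull m)) _ rfl h3
  have hsub : Subsingleton (EtCoh.H _ ((EtCoh.pull m).obj ((EtCoh.pull k).obj S.X₂)) (q + 1)) :=
    subsingleton_H_pull_pull m k S.X₂ q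
  have hγ0 : γ = 0 :=
    Subsingleton.elim (α := EtCoh.H _ ((EtCoh.pull m).obj ((EtCoh.pull k).obj S.X₂)) (q + 1)) _ _
  rw [hγ0, Ext.zero_comp] at hγ
  exact hγ.symm

/-- **Vanishing criterion for higher direct images.** -/
theorem isZero_Rpush_of_LZ (n : ℕ) : ∀ (G : EtCoh.Ab X'),
    (∀ q : ℕ, 1 ≤ q → q ≤ n → LZ h G q) →
      ∀ q : ℕ, 1 ≤ q → q ≤ n → IsZero ((EtCoh.Rpush h q).obj G) := by
  induction n with
  | zero =>
    intro G _ q h1 h2
    omega
  | succ n ih =>
    intro G hG q hq1 hq2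
    have hS : (injSC G).ShortExact := injSC_shortExact G
    have : PreservesFiniteLimits (EtCoh.push h) := by
      have : PreservesLimitsOfSize.{0, 0} (EtCoh.push h) :=
        (EtCoh.pullPushAdj h).rightAdjoint_preservesLimits
      exact PreservesLimitsOfSize.preservesFiniteLimits _
    cases q with
    | zero => omega
    | succ p =>
      cases p with
      | zero =>
        have hepi := epi_push_map_of_LZ h (injSC G) hS (hG 1 le_rfl (by omega))
        have e := rightDerivedOneIso (EtCoh.push h) (injSC G) hS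
        exact (isZero_cokernel_of_epi ((EtCoh.push h).map (injSC G).g)).of_iso e
      | succ p =>
        have hC : ∀ q : ℕ, 1 ≤ q → q ≤ n → LZ h (injSC G).X₃ q := by
          intro q hq hqn
          obtain ⟨q, rfl⟩ : ∃ k, q = k + 1 := ⟨q - 1, by omega⟩
          exact LZ_shift h (injSC G) hS q (hG (q + 2) (by omega) (by omega))
        have h3 := ih (injSC G).X₃ hC (p + 1) (by omega) (by omega)
        exact h3.of_iso (rightDerivedSuccSuccIso (EtCoh.push h) (injSC G) hS p)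

end Groth.Agent.Lib.Helper22.EtAcycLib
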