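import Mathlib.AlgebraicGeometry.Morphisms.QuasiCompact
import Mathlib.AlgebraicGeometry.AffineScheme
import Mathlib.RingTheory.Ideal.MinimalPrime.Localization
import Mathlib.RingTheory.Spectrum.Prime.Topology

/-!
# A point outside the image of a quasi-compact morphism has a locally closed neighbourhood
missing the image (helper22)
-/

set_option autoImplicit false
universe u
open CategoryTheory AlgebraicGeometry TopologicalSpace

namespace Groth.Agent.Lib.Helper22.EtAcyc.MinusOneTop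

/-- Ring-level statement: a prime not in the image of `Spec B → Spec A` has a basic open
neighbourhood `D(s)` such that `V(p) ∩ D(s)` misses the image. -/
lemma exists_notMem_of_not_range {A B : Type*} [CommRing A] [CommRing B] (φ : A →+* B)
    (p : Ideal A) [hp : p.IsPrime]
    (h : ∀ q : Ideal B, q.IsPrime → q.comap φ ≠ p) :
    ∃ s : A, s ∉ p ∧ ∀ q : Ideal B, q.IsPrime → p ≤ q.comap φ → s ∈ q.comap φ := by
  have hne : (p.map φ).comap φ ≠ p := by
    intro he
    have hmin : p ∈ ((p.map φ).comap φ).minimalPrimes := by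
      rw [he]
      exact ⟨⟨hp, le_rfl⟩, fun q hq hqp => hq.2⟩
    obtain ⟨q, hq, -, hqp⟩ := Ideal.exists_comap_eq_of_mem_minimalPrimes φ p hmin
    exact h q hq hqp
  have hle : p ≤ (p.map φ).comap φ := Ideal.le_comap_map
  obtain ⟨s, hs1, hs2⟩ := SetLike.exists_of_lt (lt_of_le_of_ne hle (Ne.symm hne))
  refine ⟨s, hs2, fun q hq hpq => ?_⟩
  have h1 : p.map φ ≤ q := Ideal.map_le_iff_le_comap.2 hpq
  exact h1 hs1

/-- A point `y` outside the image of a quasi-compact morphism `g` has an open neighbourhood `O`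
such that no point of `O ∩ closure {y}` is in the image. -/
theorem exists_opens_of_not_mem_range {X Y : Scheme.{u}} (g : X ⟶ Y) [QuasiCompact g] (y : Y)
    (hy : y ∉ Set.range g.base) :
    ∃ O : Y.Opens, y ∈ O ∧ ∀ x : X, g.base x ∈ O → ¬ (y ⤳ g.base x) := by
  classical
  obtain ⟨_, ⟨O₀, hO₀, rfl⟩, hyO₀, -⟩ :=
    Y.isBasis_affineOpens.exists_subset_of_mem_open (Set.mem_univ y) isOpen_univ
  have hO₀' : IsAffineOpen O₀ := hO₀
  have hc : IsCompact (g ⁻¹ᵁ O₀ : Set X) := g.isCompact_preimage hO₀'.isCompact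
  obtain ⟨S, hSfin, hS⟩ := (isCompact_iff_finite_and_eq_biUnion_affineOpens).1 hc
  let py : PrimeSpectrum Γ(Y, O₀) := hO₀'.primeIdealOf ⟨y, hyO₀⟩
  have hle : ∀ V ∈ S, (V : X.Opens) ≤ g ⁻¹ᵁ O₀ := by
    intro V hV
    rw [hS]
    exact le_iSup₂ (f := fun (i : X.affineOpens) (_ : i ∈ S) => (i : X.Opens)) V hV
  -- for each affine open of the cover, an element `s`
  have key : ∀ V : X.affineOpens, ∀ hV : V ∈ S, ∃ s : Γ(Y, O₀), s ∉ py.asIdeal ∧
      ∀ x : X, ∀ hx : x ∈ (V : X.Opens), py ≤ hO₀'.primeIdealOf ⟨g.base x, hle V hV hx⟩ →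
        s ∈ (hO₀'.primeIdealOf ⟨g.base x, hle V hV hx⟩).asIdeal := by
    intro V hV
    let φ := (g.appLE O₀ V (hle V hV)).hom
    have h1 : ∀ q : Ideal Γ(X, (V : X.Opens)), q.IsPrime → q.comap φ ≠ py.asIdeal := by
      intro q hq hqp
      apply hy
      let Q : PrimeSpectrum Γ(X, (V : X.Opens)) := ⟨q, hq⟩
      let x : X := V.2.fromSpec Q
      have hxV : x ∈ (V : X.Opens) := by
        have : x ∈ Set.range V.2.fromSpec := ⟨Q, rfl⟩
        rw [V.2.range_fromSpec] at this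
        exact this
      have hQ : V.2.primeIdealOf ⟨x, hxV⟩ = Q := by
        apply V.2.fromSpec.isOpenEmbedding.injective
        rw [V.2.fromSpec_primeIdealOf]
      have h2 := IsAffineOpen.comap_primeIdealOf_appLE (f := g) O₀ hO₀' V V.2 (hle V hV) hxV
      rw [hQ] at h2
      have h3 : hO₀'.primeIdealOf ⟨g.base x, hle V hV hxV⟩ = py := by
        rw [← h2]
        exact PrimeSpectrum.ext hqp
      refine ⟨x, ?_⟩
      have h4 := hO₀'.fromSpec_primeIdealOf ⟨g.base x, hle V hV hxV⟩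
      rw [h3] at h4
      exact h4.symm.trans (hO₀'.fromSpec_primeIdealOf ⟨y, hyO₀⟩)
    obtain ⟨s, hs1, hs2⟩ := exists_notMem_of_not_range φ py.asIdeal h1
    refine ⟨s, hs1, fun x hx hpx => ?_⟩
    have h2 := IsAffineOpen.comap_primeIdealOf_appLE (f := g) O₀ hO₀' V V.2 (hle V hV) hx
    have h5 := hs2 (V.2.primeIdealOf ⟨x, hx⟩).asIdeal (V.2.primeIdealOf ⟨x, hx⟩).isPrime (by
      change py.asIdeal ≤ ((V.2.primeIdealOf ⟨x, hx⟩).comap φ).asIdeal
      rw [h2]
      exact hpx)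
    change s ∈ ((V.2.primeIdealOf ⟨x, hx⟩).comap φ).asIdeal at h5
    rw [h2] at h5
    exact h5
  choose! sV hsV1 hsV2 using key
  let s : Γ(Y, O₀) := ∏ V ∈ hSfin.toFinset, sV V
  have hs : s ∉ py.asIdeal := by
    intro hmem
    obtain ⟨V, hV, hVmem⟩ := (py.isPrime.prod_mem_iff).1 hmem
    exact hsV1 V ((Set.Finite.mem_toFinset hSfin).1 hV) hVmem
  refine ⟨Y.basicOpen s, ?_, ?_⟩
  · have h1 : py ∈ PrimeSpectrum.basicOpen s := hs
    rw [← hO₀'.fromSpec_preimage_basicOpen] at h1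
    have h2 : hO₀'.fromSpec py ∈ Y.basicOpen s := h1
    rwa [hO₀'.fromSpec_primeIdealOf] at h2
  · intro x hxO hspec
    have hxO₀ : g.base x ∈ O₀ := Y.basicOpen_le s hxO
    have hxpre : x ∈ (g ⁻¹ᵁ O₀ : X.Opens) := hxO₀
    rw [hS] at hxpre
    simp only [Opens.mem_iSup] at hxpre
    obtain ⟨V, hV, hxV⟩ := hxpre
    let px : PrimeSpectrum Γ(Y, O₀) := hO₀'.primeIdealOf ⟨g.base x, hle V hV hxV⟩
    have hpx : hO₀'.fromSpec px = g.base x := hO₀'.fromSpec_primeIdealOf _
    have hpy : hO₀'.fromSpec py = y := hO₀'.fromSpec_primeIdealOf _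
    have hsp : py ⤳ px := by
      refine (hO₀'.fromSpec.isOpenEmbedding.toIsInducing.specializes_iff).1 ?_
      rw [hpx, hpy]
      exact hspec
    have hle' : py ≤ px := (PrimeSpectrum.le_iff_specializes py px).2 hsp
    have h1 := hsV2 V hV x hxV hle'
    have h2 : px ∈ PrimeSpectrum.basicOpen s := by
      rw [← hO₀'.fromSpec_preimage_basicOpen]
      change hO₀'.fromSpec px ∈ Y.basicOpen s
      rw [hpx]
      exact hxO
    apply h2
    exact Ideal.mem_of_dvd _ (Finset.dvd_prod_of_mem sV ((Set.Finite.mem_toFinset hSfin).2 hV)) h1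

end Groth.Agent.Lib.Helper22.EtAcyc.MinusOneTop
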