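import Groth.Agent.Lib.Helper22.EtLoc.Clopen
import Groth.Prelude.Def_SGA4b

/-!
# The sheaf of open subsets on the small étale site (helper22)

`W ↦ Opens W.left` is a sheaf of sets on the small étale site of a scheme; intersecting with a
fixed open gives an endomorphism.
-/

set_option autoImplicit false
universe u
open CategoryTheory CategoryTheory.Limits AlgebraicGeometry Opposite TopologicalSpace

namespace Groth.Agent.Lib.Helper22.EtAcyc.OpensSheaf

open Groth.Agent.Lib.Helper22.CechU.Etale

noncomputable section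

variable (S : Scheme.{u})

/-- A morphism of étale `S`-schemes is étale. -/
lemma etale_left' {U V : S.Etale} (g : V ⟶ U) : Etale (g.left : V.left ⟶ U.left) := by
  have h1 : Etale (U.hom : U.left ⟶ S) := U.prop
  have h2 : Etale ((g.left : V.left ⟶ U.left) ≫ (U.hom : U.left ⟶ S)) := by
    have e : (g.left : V.left ⟶ U.left) ≫ (U.hom : U.left ⟶ S) = V.hom := Over.w g.hom
    rw [e]
    exact V.prop
  exact MorphismProperty.of_postcomp (W := @Etale) (W' := @Etale) _ _ h1 h2

/-- The presheaf of open subsets. -/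
def opensPre : S.Etaleᵒᵖ ⥤ Type (u + 1) where
  obj W := ULift.{u + 1} (W.unop.left.Opens)
  map {W W'} f := TypeCat.ofHom (fun P => ⟨(f.unop.left : W'.unop.left ⟶ W.unop.left) ⁻¹ᵁ P.down⟩)
  map_id W := by
    ext P
    rfl
  map_comp f g := by
    ext P
    rfl

lemma opensPre_map_down {W W' : S.Etale} (f : W' ⟶ W) (P : (opensPre S).obj (op W)) :
    ((opensPre S).map f.op P).down = (f.left : W'.left ⟶ W.left) ⁻¹ᵁ P.down := rfl

set_option backward.isDefEq.respectTransparency.types false in
lemma isSheaf_opensPre : Presieve.IsSheaf S.smallEtaleTopology (opensPre S) := by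
  intro W R hR
  rw [mem_smallEtaleTopology_iff] at hR
  intro x hx
  let t : Set W.left := {w | ∃ (V : S.Etale) (f : V ⟶ W) (hf : R.arrows f) (p : V.left),
    p ∈ (x f hf).down ∧ (f.left : V.left ⟶ W.left) p = w}
  have ht : IsOpen t := by
    rw [isOpen_iff_forall_mem_open]
    rintro w ⟨V, f, hf, p, hp, rfl⟩
    refine ⟨(f.left : V.left ⟶ W.left) '' ((x f hf).down : Set V.left), ?_, ?_, ⟨p, hp, rfl⟩⟩
    · rintro _ ⟨p', hp', rfl⟩
      exact ⟨V, f, hf, p', hp', rfl⟩
    · have : Etale (f.left : V.left ⟶ W.left) := etale_left' S f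
      exact (f.left : V.left ⟶ W.left).isOpenMap _ (x f hf).down.isOpen
  have key : ∀ (V : S.Etale) (f : V ⟶ W) (hf : R.arrows f) (p : V.left),
      (f.left : V.left ⟶ W.left) p ∈ t ↔ p ∈ (x f hf).down := by
    intro V f hf p
    constructor
    · rintro ⟨V', f', hf', q, hq, hqp⟩
      let fl : V.left ⟶ W.left := f.left
      let fl' : V'.left ⟶ W.left := f'.left
      obtain ⟨z, hz1, hz2⟩ := Scheme.Pullback.exists_preimage_pullback (f := fl) (g := fl') p q hqp.symm
      have e1 : Etale fl' := etale_left' S f'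
      have e2 : Etale (V.hom : V.left ⟶ S) := V.prop
      let Z : S.Etale := MorphismProperty.Over.mk ⊤ (pullback.fst fl fl' ≫ (V.hom : V.left ⟶ S))
        (inferInstance : Etale (pullback.fst fl fl' ≫ (V.hom : V.left ⟶ S)))
      let g₁ : Z ⟶ V := MorphismProperty.Over.homMk (pullback.fst fl fl') rfl trivial
      have hw2 : pullback.snd fl fl' ≫ (V'.hom : V'.left ⟶ S) =
          pullback.fst fl fl' ≫ (V.hom : V.left ⟶ S) := by
        have h1 : fl ≫ (W.hom : W.left ⟶ S) = V.hom := Over.w f.hom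
        have h2 : fl' ≫ (W.hom : W.left ⟶ S) = V'.hom := Over.w f'.hom
        rw [← h1, ← h2, ← Category.assoc, ← Category.assoc, pullback.condition]
      let g₂ : Z ⟶ V' := MorphismProperty.Over.homMk (pullback.snd fl fl') hw2 trivial
      have hc : g₁ ≫ f = g₂ ≫ f' := by
        apply MorphismProperty.Over.Hom.ext
        exact pullback.condition
      have h3 := hx g₁ g₂ hf hf' hc
      have h4 : ((opensPre S).map g₁.op (x f hf)).down = ((opensPre S).map g₂.op (x f' hf')).down :=
        congrArg ULift.down h3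
      rw [opensPre_map_down, opensPre_map_down] at h4
      have h5 : z ∈ ((g₂.left : Z.left ⟶ V'.left) ⁻¹ᵁ (x f' hf').down) := by
        change pullback.snd fl fl' z ∈ (x f' hf').down
        rw [hz2]
        exact hq
      rw [← h4] at h5
      have h6 : pullback.fst fl fl' z ∈ (x f hf).down := h5
      rwa [hz1] at h6
    · intro hp
      exact ⟨V, f, hf, p, hp, rfl⟩
  refine ⟨⟨⟨t, ht⟩⟩, ?_, ?_⟩
  · intro V f hf
    apply ULift.ext
    rw [opensPre_map_down]
    apply Opens.ext
    ext p
    exact key V f hf p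
  · intro t' ht'
    apply ULift.ext
    apply Opens.ext
    ext w
    obtain ⟨V, f, p, hf, rfl⟩ := hR w
    have h1 : ((opensPre S).map f.op t').down = (x f hf).down := congrArg ULift.down (ht' f hf)
    rw [opensPre_map_down] at h1
    change (f.left : V.left ⟶ W.left) p ∈ t'.down ↔ (f.left : V.left ⟶ W.left) p ∈ t
    rw [key V f hf p, ← h1]
    rfl

/-- The sheaf of open subsets. -/
def opensSh : EtDesc.Sh S :=
  ⟨opensPre S, (isSheaf_iff_isSheaf_of_type _ _).2 (isSheaf_opensPre S)⟩

/-- Intersection with a fixed open of `S`. -/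
def interHom (U : S.Opens) : opensSh S ⟶ opensSh S :=
  ⟨{ app := fun W => TypeCat.ofHom (fun P =>
        (⟨P.down ⊓ ((W.unop.hom : W.unop.left ⟶ S) ⁻¹ᵁ U)⟩ : ULift.{u + 1} (W.unop.left.Opens)))
     naturality := by
      intro W W' f
      ext P
      apply ULift.ext
      change ((f.unop.left : W'.unop.left ⟶ W.unop.left) ⁻¹ᵁ P.down) ⊓
          ((W'.unop.hom : W'.unop.left ⟶ S) ⁻¹ᵁ U) =
        (f.unop.left : W'.unop.left ⟶ W.unop.left) ⁻¹ᵁ
          (P.down ⊓ ((W.unop.hom : W.unop.left ⟶ S) ⁻¹ᵁ U))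
      have h1 : (f.unop.left : W'.unop.left ⟶ W.unop.left) ≫ (W.unop.hom : W.unop.left ⟶ S) =
          W'.unop.hom := Over.w f.unop.hom
      rw [← h1]
      rfl }⟩

lemma interHom_app_down (U : S.Opens) (W : S.Etale) (P : (opensSh S).obj.obj (op W)) :
    ((interHom S U).hom.app (op W) P).down = P.down ⊓ ((W.hom : W.left ⟶ S) ⁻¹ᵁ U) := rfl

end

end Groth.Agent.Lib.Helper22.EtAcyc.OpensSheaf
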