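import Groth.Agent.Lib.Helper22.EtAcyc.LocZero
import Groth.Agent.Lib.Helper22.EtAcyc.TruncLeray
import Groth.Agent.Lib.Helper22.EtLoc.BcPj
import Groth.Prelude.Def_EtAcyc

/-!
# `n`-acyclicity: from comparison of cohomology to unit isomorphism and vanishing of `R^q`
-/

set_option autoImplicit false
set_option linter.unusedSectionVars false

universe u

open CategoryTheory CategoryTheory.Limits Opposite AlgebraicGeometry Abelian

namespace Groth.Agent.Lib.Helper22.EtAcycLib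

open Groth.Agent.Lib.Helper22.EtLoc Groth.Agent.Lib.Helper22.DimShift
open Groth.Agent.Lib.Helper22.CechU.Etale

attribute [local instance] pfl

section Torsion

variable {X Y : Scheme.{u}} (L : Set ℕ)

lemma isLTorsion_of_iso {F F' : EtCoh.Ab X} (e : F ≅ F') (hF : EtAcyc.IsLTorsion L F) :
    EtAcyc.IsLTorsion L F' := by
  intro U s' x
  obtain ⟨V, g, m, hv, hm, hz⟩ := hF U (e.inv.hom.app (op U) s') x
  refine ⟨V, g, m, hv, hm, ?_⟩
  have h1 : e.hom.hom.app (op U) (e.inv.hom.app (op U) s') = s' :=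
    congrArg (fun ψ : F' ⟶ F' => ψ.hom.app (op U) s') e.inv_hom_id
  have h2 : F'.obj.map g.op (e.hom.hom.app (op U) (e.inv.hom.app (op U) s')) =
      e.hom.hom.app (op V) (F.obj.map g.op (e.inv.hom.app (op U) s')) :=
    (NatTrans.naturality_apply e.hom.hom g.op _).symm
  rw [← h1, h2, ← map_nsmul, hz, map_zero]

lemma isLTorsion_res (j : Y ⟶ X) [Etale j] (F : EtCoh.Ab X) (hF : EtAcyc.IsLTorsion L F) :
    EtAcyc.IsLTorsion L ((res j).obj F) := by
  intro U s x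
  obtain ⟨V, g, m, ⟨v, hv⟩, hm, hz⟩ := hF ((pj j).obj U) s x
  let gl : V.left ⟶ U.left := g.left
  have hgl : gl ≫ U.hom ≫ j = V.hom := Over.w g.hom
  have hE1 : Etale gl := inferInstanceAs (Etale g.left)
  have hE2 : Etale (U.hom : U.left ⟶ Y) := U.prop
  have hE3 : Etale (gl ≫ U.hom) := inferInstance
  let U' : Y.Etale := Scheme.Etale.mk (gl ≫ U.hom)
  let g' : U' ⟶ U := MorphismProperty.Over.homMk gl rfl trivial
  let ι : (pj j).obj U' ⟶ V := MorphismProperty.Over.homMk (𝟙 _) (by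
    change 𝟙 _ ≫ V.hom = (gl ≫ U.hom) ≫ j
    rw [Category.id_comp, Category.assoc]
    exact hgl.symm) trivial
  have hι : (pj j).map g' = ι ≫ g := by
    apply MorphismProperty.Over.Hom.ext
    change gl = 𝟙 _ ≫ gl
    rw [Category.id_comp]
  refine ⟨U', g', m, ⟨v, hv⟩, hm, ?_⟩
  change m • F.obj.map ((pj j).map g').op s = 0
  rw [hι, op_comp, Functor.map_comp_apply, ← map_nsmul, hz, map_zero]

lemma isLTorsion_pull_etale (j : Y ⟶ X) [Etale j] (F : EtCoh.Ab X) (hF : EtAcyc.IsLTorsion L F) :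
    EtAcyc.IsLTorsion L ((EtCoh.pull j).obj F) :=
  isLTorsion_of_iso L ((pullIsoRes j).app F).symm (isLTorsion_res L j F hF)

end Torsion

section Transfer

variable {X₁ X₂ Y : Scheme.{u}}

lemma ext_eq_zero_of_comp_iso_hom {𝒜 : Type*} [Category 𝒜] [Abelian 𝒜] [HasExt.{u + 1} 𝒜]
    {Z P Q : 𝒜} {n : ℕ} (e : P ≅ Q) (x : Ext Z P n)
    (h : x.comp (Ext.mk₀ e.hom) (add_zero n) = 0) : x = 0 :=
  ext_eq_zero_of_iso e.symm x h

lemma bijective_comp_iso {𝒜 : Type*} [Category 𝒜] [Abelian 𝒜] [HasExt.{u + 1} 𝒜]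
    {Z P Q : 𝒜} (n : ℕ) (e : P ≅ Q) :
    Function.Bijective (fun x : Ext Z P n => x.comp (Ext.mk₀ e.hom) (add_zero n)) := by
  refine Function.bijective_iff_has_inverse.2
    ⟨fun y => y.comp (Ext.mk₀ e.inv) (add_zero n), fun x => ?_, fun y => ?_⟩
  · change (x.comp (Ext.mk₀ e.hom) (add_zero n)).comp (Ext.mk₀ e.inv) (add_zero n) = x
    rw [Ext.comp_assoc_of_second_deg_zero, Ext.mk₀_comp_mk₀, e.hom_inv_id, Ext.comp_mk₀_id]
  · change (y.comp (Ext.mk₀ e.inv) (add_zero n)).comp (Ext.mk₀ e.hom) (add_zero n) = y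
    rw [Ext.comp_assoc_of_second_deg_zero, Ext.mk₀_comp_mk₀, e.inv_hom_id, Ext.comp_mk₀_id]

/-- `Hpull (φ ≫ p)` is `Hpull p` followed by a bijection when `φ` is an isomorphism. -/
lemma Hpull_comp_iso (p : X₁ ⟶ Y) (φ : X₂ ⟶ X₁) [IsIso φ]
    [PreservesFiniteLimits (EtCoh.pull (φ ≫ p))] (F : EtCoh.Ab Y) (q : ℕ) :
    ∃ b : EtCoh.H X₁ ((EtCoh.pull p).obj F) q → EtCoh.H X₂ ((EtCoh.pull (φ ≫ p)).obj F) q,
      Function.Bijective b ∧ ∀ x, EtCore.Hpull (φ ≫ p) F q x = b (EtCore.Hpull p F q x) := by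
  refine ⟨fun z => EtCore.HpullVia φ p (φ ≫ p) rfl F q z, ?_, fun x => ?_⟩
  · have h1 : Function.Bijective (EtCore.Hpull φ ((EtCoh.pull p).obj F) q) :=
      Hpull_bijective_of_isIso φ _ q
    have h2 := bijective_comp_iso (Z := EtCoh.const X₂ ℤ) q ((εIso φ p (φ ≫ p) rfl).app F)
    exact h2.comp h1
  · exact (HpullVia_Hpull φ p (φ ≫ p) rfl F q x).symm

/-- The comparison condition is invariant under precomposition with an isomorphism. -/
lemma compN_of_iso (p : X₁ ⟶ Y) (φ : X₂ ⟶ X₁) [IsIso φ] (L : Set ℕ) (n : ℕ)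
    (hp : EtAcyc.CompN p L n) : EtAcyc.CompN (φ ≫ p) L n := by
  intro F hF inst
  obtain ⟨hb, hi⟩ := hp F hF
  refine ⟨fun q hq => ?_, ?_⟩
  · obtain ⟨b, hbb, hbe⟩ := Hpull_comp_iso p φ F q
    have : (EtCore.Hpull (φ ≫ p) F q : _ → _) = b ∘ (EtCore.Hpull p F q) := funext hbe
    rw [this]
    exact hbb.comp (hb q hq)
  · obtain ⟨b, hbb, hbe⟩ := Hpull_comp_iso p φ F (n + 1)
    have : (EtCore.Hpull (φ ≫ p) F (n + 1) : _ → _) = b ∘ (EtCore.Hpull p F (n + 1)) :=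
      funext hbe
    rw [this]
    exact hbb.1.comp hi

end Transfer

section Reduction

variable {X' V' : Scheme.{u}} (h : X' ⟶ V') (L : Set ℕ) (n : ℕ)

/-- The projection `X' ×_{V'} W → W`. -/
noncomputable abbrev gg (W : V'.Etale) : ((EtCoh.bc h).obj W).left ⟶ W.left :=
  pullback.fst W.hom h

lemma gg_comp (W : V'.Etale) : gg h W ≫ W.hom = kk h W ≫ h := pullback.condition

/-- Every base change of `h` along an étale `V'`-scheme satisfies the comparison condition. -/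
def HypR : Prop := ∀ W : V'.Etale, EtAcyc.CompN (gg h W) L n

lemma Hpull_eq_zero_of_eq {A B : Scheme.{u}} {f₁ f₂ : A ⟶ B} (e : f₁ = f₂) (G : EtCoh.Ab B)
    (q : ℕ) (x : EtCoh.H B G q) (hx : EtCore.Hpull f₂ G q x = 0) : EtCore.Hpull f₁ G q x = 0 := by
  subst e
  exact hx

/-- Under `HypR`, classes of `h⁻¹F` in degrees `1 ≤ q ≤ n` die locally on the base. -/
theorem LZ_pull_of_hyp (hyp : HypR h L n) (F : EtCoh.Ab V') (hF : EtAcyc.IsLTorsion L F)
    (q : ℕ) (hq1 : 1 ≤ q) (hqn : q ≤ n) : LZ h ((EtCoh.pull h).obj F) q := by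
  intro W ξ y
  obtain ⟨q', rfl⟩ : ∃ q', q = q' + 1 := ⟨q - 1, by omega⟩
  have hEj : Etale (W.hom : W.left ⟶ V') := W.prop
  let j : W.left ⟶ V' := W.hom
  let k := kk h W
  let g₂ := gg h W
  have w : g₂ ≫ j = k ≫ h := gg_comp h W
  let ε : (EtCoh.pull k).obj ((EtCoh.pull h).obj F) ≅
      (EtCoh.pull g₂).obj ((EtCoh.pull j).obj F) :=
    ((εIso k h (k ≫ h) rfl).app F) ≪≫ ((εIso g₂ j (k ≫ h) w).app F).symm
  let A := (EtCoh.pull j).obj F
  have hA : EtAcyc.IsLTorsion L A := isLTorsion_pull_etale L j F hF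
  obtain ⟨hbij, -⟩ := hyp W A hA
  obtain ⟨η, hη⟩ := (hbij (q' + 1) hqn).2
    ((ξ : Ext (EtCoh.const _ ℤ) _ (q' + 1)).comp (Ext.mk₀ ε.hom) (add_zero (q' + 1)))
  obtain ⟨U, u, hu, hU⟩ := exists_etale_Hpull_eq_zero q' A η y
  have hEU : Etale (U.hom : U.left ⟶ W.left) := U.prop
  have hE3 : Etale ((U.hom : U.left ⟶ W.left) ≫ j) := inferInstance
  let W' : V'.Etale := Scheme.Etale.mk ((U.hom : U.left ⟶ W.left) ≫ j)
  let f : W' ⟶ W := MorphismProperty.Over.homMk (U.hom : U.left ⟶ W.left) rfl trivial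
  refine ⟨W', f, u, hu, ?_⟩
  let m := ((EtCoh.bc h).map f).left
  let g₃ : ((EtCoh.bc h).obj W').left ⟶ U.left := gg h W'
  have sq : m ≫ g₂ = g₃ ≫ (U.hom : U.left ⟶ W.left) := (EtCoh.isPullback_bc_map h f).w
  -- step 1
  have s1 : EtCore.Hpull m ((EtCoh.pull g₂).obj A) (q' + 1)
      (EtCore.Hpull g₂ A (q' + 1) η) = 0 := by
    have hA1 := HpullVia_Hpull m g₂ (m ≫ g₂) rfl A (q' + 1) η
    have hA2 := HpullVia_Hpull g₃ (U.hom : U.left ⟶ W.left) (m ≫ g₂) sq.symm A (q' + 1) η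
    rw [hU, map_zero] at hA2
    rw [← hA2, HpullVia_apply] at hA1
    exact ext_eq_zero_of_comp_iso_hom ((εIso m g₂ (m ≫ g₂) rfl).app A) _ hA1
  -- step 2
  have s2 := Hpull_naturality m ε.hom (q' + 1) ξ
  rw [← hη, s1] at s2
  exact ext_eq_zero_of_comp_iso_hom ((EtCoh.pull m).mapIso ε) _ s2.symm

end Reduction

section UnitIso

variable {X' V' : Scheme.{u}} (h : X' ⟶ V') (W : V'.Etale)

/-- The diagonal `W → W ×_{V'} W` as a morphism of the small étale site of `W`. -/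
noncomputable def diag : EtCoh.top W.left ⟶ (EtCoh.bc W.hom).obj W :=
  (pjAdj W.hom).homEquiv _ _ (pjTopIso W).hom

lemma pj_diag_counit :
    (pj W.hom).map (diag W) ≫ (pjAdj W.hom).counit.app W = (pjTopIso W).hom :=
  ((pjAdj W.hom).homEquiv_counit _ _ _).symm.trans (Equiv.symm_apply_apply _ _)

lemma diag_left_fst : (diag W).left ≫ pullback.fst W.hom W.hom = 𝟙 _ := by
  have h1 := congrArg (fun φ => φ.left) (pj_diag_counit W)
  exact h1

/-- The comparison morphism `μ`. -/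
noncomputable def mu :
    (pj (kk h W)).obj ((EtCoh.bc (gg h W)).obj (EtCoh.top W.left)) ⟶ (EtCoh.bc h).obj W :=
  (pj (kk h W)).map ((EtCoh.bc (gg h W)).map (diag W) ≫
    (MorphismProperty.Over.pullbackComp (P := EtCoh.etaleMP) (Q := ⊤) (gg h W) W.hom).inv.app W ≫
    (MorphismProperty.Over.pullbackCongr (P := EtCoh.etaleMP) (Q := ⊤) (gg_comp h W)).hom.app W ≫
    (MorphismProperty.Over.pullbackComp (P := EtCoh.etaleMP) (Q := ⊤) (kk h W) h).hom.app W) ≫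
  (pjAdj (kk h W)).counit.app ((EtCoh.bc h).obj W)

lemma pullbackComp_inv_left_fst {X Y Z : Scheme.{u}} (f : X ⟶ Y) (g : Y ⟶ Z) (A : Z.Etale) :
    ((MorphismProperty.Over.pullbackComp (P := EtCoh.etaleMP) (Q := ⊤) f g).inv.app A).left ≫
      pullback.fst A.hom (f ≫ g) =
    pullback.fst (pullback.snd A.hom g) f ≫ pullback.fst A.hom g := by
  have h1 := MorphismProperty.Over.pullbackComp_left_fst_fst (P := EtCoh.etaleMP) (Q := ⊤) f g A
  rw [← h1]
  have h2 : ((MorphismProperty.Over.pullbackComp (P := EtCoh.etaleMP) (Q := ⊤) f g).inv.app A).left ≫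
      ((MorphismProperty.Over.pullbackComp (P := EtCoh.etaleMP) (Q := ⊤) f g).hom.app A).left =
      𝟙 _ := by
    have := congrArg (fun φ => φ.left)
      ((MorphismProperty.Over.pullbackComp (P := EtCoh.etaleMP) (Q := ⊤) f g).inv_hom_id_app A)
    exact this
  rw [← Category.assoc, h2]
  exact Category.id_comp _

lemma chain_aux {C : Type*} [Category C] {A₀ A₁ A₂ A₃ A₄ A₅ A₆ P R : C}
    (a : A₀ ⟶ A₁) (b : A₁ ⟶ A₂) (c : A₂ ⟶ A₃) (d : A₃ ⟶ A₄) (e : A₄ ⟶ A₅) (f : A₅ ⟶ A₆)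
    (x1 : A₃ ⟶ A₆) (x2 : A₂ ⟶ A₆) (p : A₁ ⟶ P) (q : P ⟶ A₆) (r : A₀ ⟶ R) (dl : R ⟶ P)
    (e1 : d ≫ e ≫ f = x1) (e2 : c ≫ x1 = x2) (e3 : b ≫ x2 = p ≫ q) (hD : a ≫ p = r ≫ dl)
    (r' : A₀ ⟶ A₆) (e4 : r ≫ dl ≫ q = r') : (a ≫ b ≫ c ≫ d ≫ e) ≫ f = r' := by
  simp only [Category.assoc]
  rw [e1, e2, e3, reassoc_of% hD, e4]

lemma mu_left_fst : (mu h W).left ≫ pullback.fst W.hom h =
    pullback.fst (𝟙 W.left) (gg h W) := by
  have e1 := MorphismProperty.Over.pullbackComp_left_fst_fst (P := EtCoh.etaleMP) (Q := ⊤)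
    (kk h W) h W
  have e2 := MorphismProperty.Over.pullbackCongr_hom_app_left_fst (P := EtCoh.etaleMP) (Q := ⊤)
    (gg_comp h W) W
  have e3 := pullbackComp_inv_left_fst (gg h W) W.hom W
  have e4 := diag_left_fst W
  have hD : ((EtCoh.bc (gg h W)).map (diag W)).left ≫
      pullback.fst (pullback.snd W.hom W.hom) (gg h W) =
      pullback.fst (𝟙 W.left) (gg h W) ≫ (diag W).left := by
    dsimp [EtCoh.bc]
    exact pullback.lift_fst _ _ _
  have hμ : (mu h W).left = ((EtCoh.bc (gg h W)).map (diag W)).left ≫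
      ((MorphismProperty.Over.pullbackComp (P := EtCoh.etaleMP) (Q := ⊤) (gg h W)
        W.hom).inv.app W).left ≫
      ((MorphismProperty.Over.pullbackCongr (P := EtCoh.etaleMP) (Q := ⊤)
        (gg_comp h W)).hom.app W).left ≫
      ((MorphismProperty.Over.pullbackComp (P := EtCoh.etaleMP) (Q := ⊤) (kk h W) h).hom.app
        W).left ≫ pullback.fst (pullback.snd W.hom h) (kk h W) := rfl
  refine (congrArg (fun z => z ≫ pullback.fst W.hom h) hμ).trans ?_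
  refine chain_aux _ _ _ _ _ _ _ _ _ _ _ _ e1 e2 e3 hD _ ?_
  exact (congrArg (fun z => pullback.fst (𝟙 W.left) (gg h W) ≫ z) e4).trans (Category.comp_id _)

lemma mu_left : (mu h W).left = pullback.snd (𝟙 W.left) (gg h W) := by
  apply pullback.hom_ext (f := W.hom) (g := h)
  · refine (mu_left_fst h W).trans ?_
    exact (pullback.condition (f := 𝟙 W.left) (g := gg h W)).symm.trans (Category.comp_id _) |>.symm
  · exact Over.w (mu h W).hom

instance isIso_mu : IsIso (mu h W) := by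
  have h1 : IsIso (mu h W).left := by
    rw [mu_left]
    exact pullback_snd_iso_of_left_iso (𝟙 W.left) (gg h W)
  have h2 : IsIso ((Scheme.Etale.forget X' ⋙ Over.forget X').map (mu h W)) := h1
  exact isIso_of_reflects_iso (mu h W) (Scheme.Etale.forget X' ⋙ Over.forget X')

lemma chaseL {𝒞 : Type*} [Category 𝒞] {P₀ P₁ P₂ P₃ P₄ Q₁ Q₂ : 𝒞}
    (a₁ : P₀ ⟶ P₁) (a₂ : P₁ ⟶ P₂) (a₃ : P₂ ⟶ P₃) (R : P₃ ⟶ P₄)
    (r₁ : P₁ ⟶ Q₁) (η₀ : Q₁ ⟶ Q₂) (r₂ : P₂ ⟶ Q₂) (θ₀ : Q₂ ⟶ P₄) (ε : P₀ ⟶ Q₁)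
    (n1 : a₂ ≫ r₂ = r₁ ≫ η₀) (n2 : a₃ ≫ R = r₂ ≫ θ₀) (n3 : a₁ ≫ r₁ = ε) :
    ((a₁ ≫ a₂) ≫ a₃) ≫ R = ε ≫ η₀ ≫ θ₀ := by
  rw [Category.assoc, Category.assoc, n2, reassoc_of% n1, reassoc_of% n3]

lemma chaseR {𝒞 : Type*} [Category 𝒞] {P₀ P₁ P₂ P₃ P₄ : 𝒞}
    (η : P₀ ⟶ P₁) (m : P₁ ⟶ P₂) (β : P₂ ⟶ P₃) (R : P₃ ⟶ P₄) (κ : P₁ ⟶ P₄)
    (hκ : m ≫ β ≫ R = κ) : ((η ≫ m) ≫ β) ≫ R = η ≫ κ := by
  rw [Category.assoc, Category.assoc, hκ]

lemma mapOp_aux {𝒟 : Type*} [Category 𝒟] {ℰ : Type*} [Category ℰ] (K : 𝒟ᵒᵖ ⥤ ℰ)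
    {Z₀ Z₁ Z₂ Z₃ Z₄ Z₅ : 𝒟} (x₀ : Z₀ ⟶ Z₁) (x₁ : Z₁ ⟶ Z₂) (x₂ : Z₂ ⟶ Z₃) (x₃ : Z₃ ⟶ Z₄)
    (x₄ : Z₄ ⟶ Z₅) :
    K.map x₄.op ≫ ((K.map x₃.op ≫ K.map x₂.op) ≫ K.map x₁.op) ≫ K.map x₀.op =
      K.map (x₀ ≫ x₁ ≫ x₂ ≫ x₃ ≫ x₄).op := by
  simp only [← Functor.map_comp, ← op_comp, Category.assoc]

/-- Sections of the unit of `h⁻¹ ⊣ h_*` over `W`, compared with the unit for the base change. -/
theorem unit_sections_factor (F : EtCoh.Ab V') :
    ∃ θ : (EtCoh.pull (gg h W)).obj ((res W.hom).obj F) ≅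
        (res (kk h W)).obj ((EtCoh.pull h).obj F),
      ((EtCoh.pullPushAdj h).unit.app F).hom.app (op W) ≫
          ((EtCoh.pull h).obj F).obj.map (mu h W).op =
        F.obj.map (pjTopIso W).hom.op ≫
          ((EtCoh.pullPushAdj (gg h W)).unit.app ((res W.hom).obj F)).hom.app
            (op (EtCoh.top W.left)) ≫
            θ.hom.hom.app (op ((EtCoh.bc (gg h W)).obj (EtCoh.top W.left))) := by
  let j : W.left ⟶ V' := W.hom
  let k := kk h W
  let g₂ := gg h W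
  let adj₁ := (resPushAdj j).comp (EtCoh.pullPushAdj g₂)
  let adj₂ := (EtCoh.pullPushAdj h).comp (resPushAdj k)
  let α : EtCoh.push g₂ ⋙ EtCoh.push j ≅ EtCoh.push k ⋙ EtCoh.push h :=
    EtCoh.pushComp j g₂ ≪≫ EtCoh.pushCongr (gg_comp h W) ≪≫ (EtCoh.pushComp h k).symm
  let adj₂' := adj₂.ofNatIsoRight α.symm
  let θ := Adjunction.leftAdjointUniq adj₁ adj₂'
  refine ⟨θ.app F, ?_⟩
  have hI := Adjunction.unit_leftAdjointUniq_hom_app adj₁ adj₂' F
  let K := (EtCoh.pull h).obj F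
  let A := (res k).obj K
  let D := (EtCoh.bc g₂).map (diag W)
  let η₂ := (EtCoh.pullPushAdj g₂).unit.app ((res j).obj F)
  have hI' := congrArg (fun ψ => ψ.hom.app (op W) ≫ A.obj.map D.op) hI
  -- left hand side
  have hL : (adj₁.unit.app F ≫ (EtCoh.push g₂ ⋙ EtCoh.push j).map (θ.hom.app F)).hom.app (op W) ≫
      A.obj.map D.op =
      F.obj.map (pjTopIso W).hom.op ≫ η₂.hom.app (op (EtCoh.top W.left)) ≫
        (θ.hom.app F).hom.app (op ((EtCoh.bc g₂).obj (EtCoh.top W.left))) := by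
    refine chaseL (F.obj.map ((pjAdj j).counit.app W).op) (η₂.hom.app (op ((EtCoh.bc j).obj W)))
      ((θ.hom.app F).hom.app (op ((EtCoh.bc g₂).obj ((EtCoh.bc j).obj W)))) (A.obj.map D.op)
      (((res j).obj F).obj.map (diag W).op) _ _ _ _
      (η₂.hom.naturality (diag W).op).symm ((θ.hom.app F).hom.naturality D.op).symm ?_
    change F.obj.map ((pjAdj j).counit.app W).op ≫ F.obj.map ((pj j).map (diag W)).op = _
    rw [← Functor.map_comp, ← op_comp, pj_diag_counit]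
  -- right hand side
  have hu : adj₂'.unit.app F = ((EtCoh.pullPushAdj h).unit.app F ≫
      (EtCoh.push h).map ((resPushAdj k).unit.app K)) ≫ α.inv.app A := by
    change adj₂.unit.app F ≫ α.inv.app A = _
    rw [Adjunction.comp_unit_app]
  have hμ : mu h W = (pj k).map D ≫
      (pj k).map ((MorphismProperty.Over.pullbackComp (P := EtCoh.etaleMP) (Q := ⊤) g₂
        W.hom).inv.app W) ≫
      (pj k).map ((MorphismProperty.Over.pullbackCongr (P := EtCoh.etaleMP) (Q := ⊤)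
        (gg_comp h W)).hom.app W) ≫
      (pj k).map ((MorphismProperty.Over.pullbackComp (P := EtCoh.etaleMP) (Q := ⊤) k h).hom.app
        W) ≫ (pjAdj k).counit.app ((EtCoh.bc h).obj W) := by
    change (pj k).map _ ≫ _ = _
    rw [Functor.map_comp, Functor.map_comp, Functor.map_comp]
    simp only [Category.assoc]
    rfl
  have hR : (adj₂'.unit.app F).hom.app (op W) ≫ A.obj.map D.op =
      ((EtCoh.pullPushAdj h).unit.app F).hom.app (op W) ≫ K.obj.map (mu h W).op := by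
    rw [hu, hμ]
    refine chaseR _ _ _ _ _ ?_
    exact mapOp_aux K.obj _ _ _ _ _
  exact hR.symm.trans (hI'.symm.trans hL)

lemma isIso_map_op {𝒟 : Type*} [Category 𝒟] {ℰ : Type*} [Category ℰ] (G : 𝒟ᵒᵖ ⥤ ℰ)
    {a b : 𝒟} (f : a ⟶ b) [IsIso f] : IsIso (G.map f.op) := inferInstance

/-- If pullback along the base change `X' ×_{V'} W → W` is bijective on `H⁰` of `L`-torsion
sheaves, then the unit `F → h_* h⁻¹ F` is bijective on sections over `W`. -/
theorem isIso_unit_app_app (L : Set ℕ)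
    (hyp0 : ∀ A : EtCoh.Ab W.left, EtAcyc.IsLTorsion L A →
      Function.Bijective (EtCore.Hpull (gg h W) A 0))
    (F : EtCoh.Ab V') (hF : EtAcyc.IsLTorsion L F) :
    IsIso (((EtCoh.pullPushAdj h).unit.app F).hom.app (op W)) := by
  obtain ⟨θ, hθ⟩ := unit_sections_factor h W F
  have hEj : Etale (W.hom : W.left ⟶ V') := W.prop
  let A := (res W.hom).obj F
  have hA : EtAcyc.IsLTorsion L A := isLTorsion_res L W.hom F hF
  have hps : Function.Bijective (ps (gg h W) A) := by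
    have hcomp : (Sheaf.H.equiv₀ ((EtCoh.pull (gg h W)).obj A) (EtCore.topIsTerminal _)) ∘
        (EtCore.Hpull (gg h W) A 0) =
        (ps (gg h W) A) ∘ (Sheaf.H.equiv₀ A (EtCore.topIsTerminal W.left)) :=
      funext (equiv₀_Hpull (gg h W) A)
    have hb : Function.Bijective ((ps (gg h W) A) ∘
        (Sheaf.H.equiv₀ A (EtCore.topIsTerminal W.left))) := by
      rw [← hcomp]
      exact (Sheaf.H.equiv₀ _ (EtCore.topIsTerminal _)).bijective.comp (hyp0 A hA)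
    exact (Function.Bijective.of_comp_iff _
      (Sheaf.H.equiv₀ A (EtCore.topIsTerminal W.left)).bijective).1 hb
  have h1 : IsIso (ps (gg h W) A) := (ConcreteCategory.isIso_iff_bijective _).2 hps
  have h2 : IsIso (((EtCoh.pullPushAdj (gg h W)).unit.app A).hom.app (op (EtCoh.top W.left))) := by
    have h3 : IsIso (((EtCoh.pullPushAdj (gg h W)).unit.app A).hom.app (op (EtCoh.top W.left)) ≫
        ((EtCoh.pull (gg h W)).obj A).obj.map (EtCore.bcTopIso (gg h W)).inv.op) := h1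
    have h3' : IsIso (((EtCoh.pull (gg h W)).obj A).obj.map (EtCore.bcTopIso (gg h W)).inv.op) :=
      isIso_map_op _ _
    exact @IsIso.of_isIso_comp_right _ _ _ _ _ _ _ h3' h3
  have h4 : IsIso (θ.hom.hom.app (op ((EtCoh.bc (gg h W)).obj (EtCoh.top W.left)))) :=
    inferInstanceAs (IsIso (((sheafSections _ _).obj
      (op ((EtCoh.bc (gg h W)).obj (EtCoh.top W.left)))).map θ.hom))
  have h6 : IsIso (F.obj.map (pjTopIso W).hom.op) := isIso_map_op _ _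
  have h7 : IsIso (((EtCoh.pull h).obj F).obj.map (mu h W).op) := isIso_map_op _ _
  have h5 : IsIso (((EtCoh.pullPushAdj h).unit.app F).hom.app (op W) ≫
      ((EtCoh.pull h).obj F).obj.map (mu h W).op) := by
    rw [hθ]
    exact IsIso.comp_isIso' h6 (IsIso.comp_isIso' h2 h4)
  exact @IsIso.of_isIso_comp_right _ _ _ _ _ _ _ h7 h5

end UnitIso

section Main

variable {X' V' : Scheme.{u}} (h : X' ⟶ V') (L : Set ℕ) (n : ℕ)

/-- If every base change of `h` along an étale `V'`-scheme satisfies the comparison condition,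
then for `L`-torsion `F` the unit `F → h_* h⁻¹ F` is an isomorphism and `R^q h_* h⁻¹ F = 0` for
`1 ≤ q ≤ n`. -/
theorem reduction (hyp : HypR h L n) (F : EtCoh.Ab V') (hF : EtAcyc.IsLTorsion L F) :
    IsIso ((EtCoh.pullPushAdj h).unit.app F) ∧
      ∀ q : ℕ, 1 ≤ q → q ≤ n → IsZero ((EtCoh.Rpush h q).obj ((EtCoh.pull h).obj F)) := by
  refine ⟨?_, isZero_Rpush_of_LZ h n _ (fun q h1 h2 => LZ_pull_of_hyp h L n hyp F hF q h1 h2)⟩
  have h1 : ∀ T : (V'.Etale)ᵒᵖ, IsIso (((EtCoh.pullPushAdj h).unit.app F).hom.app T) := by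
    intro T
    exact isIso_unit_app_app h T.unop L
      (fun A hA => (hyp T.unop A hA).1 0 (Nat.zero_le n)) F hF
  have h2 : IsIso ((EtCoh.pullPushAdj h).unit.app F).hom := NatIso.isIso_of_isIso_app _
  exact (isIso_iff_of_reflects_iso _ (sheafToPresheaf _ _)).1 h2

end Main

end Groth.Agent.Lib.Helper22.EtAcycLib
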